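import Groth.Prelude.Def_FrobAlg
import Groth.Agent.EtAlgLib.Small
import Mathlib

/-!
# Relative Frobenius, formal étaleness and perfect closures
-/

set_option autoImplicit false
set_option linter.style.haveILetI false
set_option linter.unusedSectionVars false

universe u

open TensorProduct

namespace Groth.Agent.RelFrob17

variable (p : ℕ) [Fact p.Prime] (A : Type u) [CommRing A] [CharP A p]
  (B : Type u) [CommRing B] [Algebra A B] [CharP B p]

theorem relFrob_tmul (b : B) (a : A) :
    FrobAlg.relFrob p A B (b ⊗ₜ[A] FrobAlg.toTwist p A a) = b ^ p * algebraMap A B a := by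
  simp [FrobAlg.relFrob, FrobAlg.frobHom, FrobAlg.inclHom, frobenius_def]

/-- The structure map `a ↦ 1 ⊗ a` of the twisted base ring. -/
noncomputable def twistHom : A →+* FrobAlg.BaseChange p A B :=
  (Algebra.TensorProduct.includeRight (R := A) (A := B)).toRingHom.comp
    (FrobAlg.toTwist p A : A →+* FrobAlg.Twist p A)

theorem relFrob_twistHom (a : A) : FrobAlg.relFrob p A B (twistHom p A B a) = algebraMap A B a := by
  show FrobAlg.relFrob p A B ((1 : B) ⊗ₜ[A] FrobAlg.toTwist p A a) = _
  rw [relFrob_tmul, one_pow, one_mul]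

omit [Fact p.Prime] [CharP B p] in
theorem natCast_eq_zero (D : Type u) [CommRing D] [Algebra A D] : (p : D) = 0 := by
  rw [← map_natCast (algebraMap A D), CharP.cast_eq_zero, map_zero]

theorem add_pow_of_sq_eq_zero (D : Type u) [CommRing D] [Algebra A D] {I : Ideal D} (hI : I ^ 2 = ⊥)
    {x y : D} (h : x - y ∈ I) : x ^ p = y ^ p := by
  obtain ⟨r, hr⟩ := exists_add_pow_prime_eq (Fact.out : p.Prime) y (x - y)
  rw [add_sub_cancel] at hr
  have h2 : (x - y) ^ p = 0 := by
    have hp := (Fact.out : p.Prime).two_le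
    obtain ⟨q, rfl⟩ := Nat.exists_eq_add_of_le hp
    have h0 : (x - y) ^ 2 = 0 := by
      have := Ideal.pow_mem_pow h 2
      rwa [hI, Ideal.mem_bot] at this
    rw [pow_add, h0, zero_mul]
  rw [hr, h2, natCast_eq_zero p A D]
  ring

theorem hom_relFrob_eq {D : Type u} [CommRing D] [Algebra A D] {I : Ideal D} (hI : I ^ 2 = ⊥)
    {f g : B →ₐ[A] D} (h : ∀ b, f b - g b ∈ I) (x : FrobAlg.BaseChange p A B) :
    f (FrobAlg.relFrob p A B x) = g (FrobAlg.relFrob p A B x) := by
  induction x using TensorProduct.induction_on with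
  | zero => simp
  | add x y hx hy => rw [map_add, map_add, map_add, hx, hy]
  | tmul b a =>
    obtain ⟨a, rfl⟩ := (FrobAlg.toTwist p A).surjective a
    rw [relFrob_tmul, map_mul, map_mul, map_pow, map_pow, f.commutes, g.commutes,
      add_pow_of_sq_eq_zero p A D hI (h b)]

theorem formallyUnramified_iff :
    Algebra.FormallyUnramified A B ↔
      @Algebra.FormallyUnramified (FrobAlg.BaseChange p A B) B _ _ (FrobAlg.relFrob p A B).toAlgebra := by
  letI : Algebra (FrobAlg.BaseChange p A B) B := (FrobAlg.relFrob p A B).toAlgebra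
  constructor
  · intro h
    rw [Algebra.FormallyUnramified.iff_comp_injective]
    intro D _ _ I hI f g hfg
    letI : Algebra A D := ((algebraMap (FrobAlg.BaseChange p A B) D).comp (twistHom p A B)).toAlgebra
    have hc : ∀ (f : B →ₐ[FrobAlg.BaseChange p A B] D) (a : A),
        f (algebraMap A B a) = algebraMap A D a := fun f a => by
      rw [← relFrob_twistHom p A B a]
      exact f.commutes _
    let f' : B →ₐ[A] D := { f.toRingHom with commutes' := hc f }
    let g' : B →ₐ[A] D := { g.toRingHom with commutes' := hc g }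
    have : f' = g' := Algebra.FormallyUnramified.comp_injective (R := A) (A := B) I hI
      (AlgHom.ext fun b => AlgHom.congr_fun hfg b)
    exact AlgHom.ext fun b => AlgHom.congr_fun this b
  · intro h
    rw [Algebra.FormallyUnramified.iff_comp_injective]
    intro D _ _ I hI f g hfg
    have hd : ∀ b, f b - g b ∈ I := fun b => Ideal.Quotient.eq.1 (AlgHom.congr_fun hfg b)
    letI : Algebra (FrobAlg.BaseChange p A B) D :=
      ((f : B →+* D).comp (FrobAlg.relFrob p A B)).toAlgebra
    let f' : B →ₐ[FrobAlg.BaseChange p A B] D :=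
      { f.toRingHom with commutes' := fun x => rfl }
    let g' : B →ₐ[FrobAlg.BaseChange p A B] D :=
      { g.toRingHom with commutes' := fun x => (hom_relFrob_eq p A B hI hd x).symm }
    have : f' = g' := Algebra.FormallyUnramified.comp_injective
      (R := FrobAlg.BaseChange p A B) (A := B) I hI (AlgHom.ext fun b => AlgHom.congr_fun hfg b)
    exact AlgHom.ext fun b => AlgHom.congr_fun this b

theorem formallySmooth_of_bijective (h : Function.Bijective (FrobAlg.relFrob p A B)) :
    Algebra.FormallySmooth A B := by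
  refine Algebra.FormallySmooth.of_comp_surjective fun D _ _ I hI g => ?_
  cases subsingleton_or_nontrivial D with
  | inl hD =>
    exact ⟨{ toFun := fun _ => 0, map_one' := Subsingleton.elim _ _, map_mul' := fun _ _ => Subsingleton.elim _ _,
             map_zero' := rfl, map_add' := fun _ _ => Subsingleton.elim _ _,
             commutes' := fun _ => Subsingleton.elim _ _ },
      AlgHom.ext fun b => (Ideal.Quotient.mk_surjective (g b)).elim fun d hd => by
        rw [← hd]; exact congrArg (Ideal.Quotient.mk I) (Subsingleton.elim (α := D) 0 d)⟩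
  | inr hD =>
    haveI : CharP D p := (CharP.charP_iff_prime_eq_zero Fact.out).2 (natCast_eq_zero p A D)
    choose s hs using fun b : B => Ideal.Quotient.mk_surjective (g b)
    have key : ∀ (b : B) (d : D), Ideal.Quotient.mk I d = g b → (s b) ^ p = d ^ p := fun b d hd =>
      add_pow_of_sq_eq_zero p A D hI (Ideal.Quotient.eq.1 ((hs b).trans hd.symm))
    let w : B →ₐ[A] FrobAlg.Target p A D :=
      { toFun := fun b => FrobAlg.toTarget p A D ((s b) ^ p)
        map_one' := by rw [key 1 1 (by rw [map_one, map_one]), one_pow, map_one]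
        map_mul' := fun x y => by
          rw [key (x * y) (s x * s y) (by rw [map_mul, map_mul, hs, hs]), mul_pow, map_mul]
        map_zero' := by
          rw [key 0 0 (by rw [map_zero, map_zero]), zero_pow (Fact.out : p.Prime).ne_zero, map_zero]
        map_add' := fun x y => by
          rw [key (x + y) (s x + s y) (by rw [map_add, map_add, hs, hs]), add_pow_char, map_add]
        commutes' := fun a => by
          show FrobAlg.toTarget p A D (s (algebraMap A B a) ^ p) = _
          rw [key _ (algebraMap A D a) (by rw [g.commutes]; rfl), FrobAlg.algebraMap_target] }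
    let h0 : FrobAlg.BaseChange p A B →+* D :=
      ((FrobAlg.toTarget p A D).symm : FrobAlg.Target p A D →+* D).comp
        (Algebra.TensorProduct.lift w (FrobAlg.inclHom p A D) (fun _ _ => Commute.all _ _)).toRingHom
    have h0t : ∀ (b : B) (a : A),
        h0 (b ⊗ₜ[A] FrobAlg.toTwist p A a) = (s b) ^ p * algebraMap A D a := fun b a => by
      simp [h0, w, FrobAlg.inclHom]
    let e := RingEquiv.ofBijective (FrobAlg.relFrob p A B) h
    refine ⟨{ (h0.comp e.symm.toRingHom) with commutes' := fun a => ?_ }, AlgHom.ext fun b => ?_⟩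
    · show h0 (e.symm (algebraMap A B a)) = _
      rw [show e.symm (algebraMap A B a) = twistHom p A B a from
        e.symm_apply_eq.2 (relFrob_twistHom p A B a).symm]
      show h0 ((1 : B) ⊗ₜ[A] FrobAlg.toTwist p A a) = _
      rw [h0t, key 1 1 (by rw [map_one, map_one]), one_pow, one_mul]
    · show Ideal.Quotient.mk I (h0 (e.symm b)) = g b
      obtain ⟨x, rfl⟩ := e.surjective b
      rw [e.symm_apply_apply]
      show Ideal.Quotient.mk I (h0 x) = g (FrobAlg.relFrob p A B x)
      induction x using TensorProduct.induction_on with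
      | zero => simp
      | add x y hx hy => rw [map_add, map_add, hx, hy, map_add, map_add]
      | tmul b a =>
        obtain ⟨a, rfl⟩ := (FrobAlg.toTwist p A).surjective a
        rw [h0t, relFrob_tmul, map_mul, map_mul, map_pow, map_pow, hs, g.commutes]
        rfl

theorem formallyEtale_of_bijective (h : Function.Bijective (FrobAlg.relFrob p A B)) :
    Algebra.FormallyEtale A B := by
  haveI := formallySmooth_of_bijective p A B h
  haveI : Algebra.FormallyUnramified A B := by
    refine (formallyUnramified_iff p A B).2 ?_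
    letI : Algebra (FrobAlg.BaseChange p A B) B := (FrobAlg.relFrob p A B).toAlgebra
    rw [Algebra.FormallyUnramified.iff_comp_injective]
    intro D _ _ I hI f g _
    refine AlgHom.ext fun b => ?_
    obtain ⟨x, rfl⟩ := h.2 b
    exact (f.commutes x).trans (g.commutes x).symm
  exact Algebra.FormallyEtale.of_formallyUnramified_and_formallySmooth

theorem etale_cancel {X Y Z : Type u} [CommRing X] [CommRing Y] [CommRing Z] {a : X →+* Y} {b : Y →+* Z}
    (ha : a.Etale) (hab : (b.comp a).Etale) : b.Etale := by
  algebraize [a, b, b.comp a]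
  haveI : Algebra.Etale X Y := ha
  haveI : Algebra.Etale X Z := hab
  exact (Algebra.Etale.of_restrictScalars X Y Z : Algebra.Etale Y Z)

theorem bijective_of_etale [Algebra.Etale A B] : Function.Bijective (FrobAlg.relFrob p A B) := by
  letI algC : Algebra (FrobAlg.BaseChange p A B) B := (FrobAlg.relFrob p A B).toAlgebra
  haveI hE : Algebra.Etale (FrobAlg.BaseChange p A B) B := by
    haveI : Algebra.Etale (FrobAlg.Twist p A) (FrobAlg.BaseChange p A B) :=
      Algebra.Etale.of_equiv
        ({ (Algebra.TensorProduct.comm A (FrobAlg.Twist p A) B).toRingEquiv with commutes' := fun _ => rfl } :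
          FrobAlg.Twist p A ⊗[A] B ≃ₐ[FrobAlg.Twist p A] FrobAlg.BaseChange p A B)
    have ha : (algebraMap (FrobAlg.Twist p A) (FrobAlg.BaseChange p A B)).Etale :=
      RingHom.etale_algebraMap.2 inferInstance
    have hAB : ((algebraMap A B).comp ((FrobAlg.toTwist p A).symm : FrobAlg.Twist p A →+* A)).Etale :=
      RingHom.Etale.stableUnderComposition _ _
        (RingHom.Etale.of_bijective (FrobAlg.toTwist p A).symm.bijective)
        (RingHom.etale_algebraMap.2 ‹Algebra.Etale A B›)
    have hab : ((FrobAlg.relFrob p A B).comp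
        (algebraMap (FrobAlg.Twist p A) (FrobAlg.BaseChange p A B))).Etale := by
      convert hAB using 1
      refine RingHom.ext fun a => ?_
      exact relFrob_twistHom p A B ((FrobAlg.toTwist p A).symm a)
    exact etale_cancel ha hab
  haveI : Module.Flat (FrobAlg.BaseChange p A B) B := Algebra.Smooth.flat _ _
  let ι : B →+* FrobAlg.BaseChange p A B :=
    (Algebra.TensorProduct.includeLeft (R := A) (S := A) : B →ₐ[A] FrobAlg.BaseChange p A B).toRingHom
  have hι : ∀ b : B, algebraMap (FrobAlg.BaseChange p A B) B (ι b) = b ^ p := fun b => by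
    show FrobAlg.relFrob p A B (b ⊗ₜ[A] (1 : FrobAlg.Twist p A)) = _
    rw [← map_one (FrobAlg.toTwist p A), relFrob_tmul, map_one, mul_one]
  have hpC : (p : FrobAlg.BaseChange p A B) = 0 := by
    rw [← map_natCast ι, CharP.cast_eq_zero, map_zero]
  haveI : Algebra.IsIntegral (FrobAlg.BaseChange p A B) B :=
    ⟨fun b => ⟨Polynomial.X ^ p - Polynomial.C (ι b), Polynomial.monic_X_pow_sub_C _ (Fact.out : p.Prime).ne_zero,
      by rw [Polynomial.eval₂_sub, Polynomial.eval₂_X_pow, Polynomial.eval₂_C, hι, sub_self]⟩⟩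
  have hker : ∀ x, algebraMap (FrobAlg.BaseChange p A B) B x = 0 → IsNilpotent x := by
    intro x hx
    have key : ∀ x : FrobAlg.BaseChange p A B, x ^ p = ι (FrobAlg.relFrob p A B x) := by
      intro x
      induction x using TensorProduct.induction_on with
      | zero => rw [map_zero, map_zero, zero_pow (Fact.out : p.Prime).ne_zero]
      | tmul b a =>
        obtain ⟨a, rfl⟩ := (FrobAlg.toTwist p A).surjective a
        rw [relFrob_tmul, Algebra.TensorProduct.tmul_pow, ← map_pow, ← FrobAlg.algebraMap_twist,
          Algebra.algebraMap_eq_smul_one, TensorProduct.tmul_smul, TensorProduct.smul_tmul', mul_comm,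
          ← Algebra.smul_def]
        rfl
      | add x y hx hy =>
        obtain ⟨r, hr⟩ := exists_add_pow_prime_eq (Fact.out : p.Prime) x y
        rw [hr, hpC, map_add, map_add, hx, hy]
        ring
    exact ⟨p, by rw [key, show FrobAlg.relFrob p A B x = 0 from hx, map_zero]⟩
  haveI : Module.FaithfullyFlat (FrobAlg.BaseChange p A B) B :=
    Module.FaithfullyFlat.of_comap_surjective fun P => by
      obtain ⟨Q, -, hQ, hQP⟩ := Ideal.exists_ideal_over_prime_of_isIntegral
        (R := FrobAlg.BaseChange p A B) (S := B) P.asIdeal ⊥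
        (fun x hx => (P.2.radical : P.asIdeal.radical = P.asIdeal) ▸
          Ideal.radical_mono bot_le (mem_nilradical.2 (hker x hx)))
      exact ⟨⟨Q, hQ⟩, PrimeSpectrum.ext hQP⟩
  refine ⟨FaithfulSMul.algebraMap_injective (FrobAlg.BaseChange p A B) B, ?_⟩
  let μ := Algebra.TensorProduct.lmul' (FrobAlg.BaseChange p A B) (S := B)
  letI : Algebra (B ⊗[FrobAlg.BaseChange p A B] B) B := μ.toRingHom.toAlgebra
  haveI : Module.Flat (B ⊗[FrobAlg.BaseChange p A B] B) B :=
    Algebra.WeaklyEtale.flat_lmul' (FrobAlg.BaseChange p A B) B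
  have hpB : (p : B ⊗[FrobAlg.BaseChange p A B] B) = 0 := by
    rw [← map_natCast (algebraMap (FrobAlg.BaseChange p A B) _), hpC, map_zero]
  have hnil : RingHom.ker μ.toRingHom ≤ nilradical _ := by
    intro z hz
    refine mem_nilradical.2 ⟨p, ?_⟩
    have key : ∀ w : B ⊗[FrobAlg.BaseChange p A B] B, w ^ p = ((μ w) ^ p) ⊗ₜ (1 : B) := by
      intro w
      induction w using TensorProduct.induction_on with
      | zero => simp [zero_pow (Fact.out : p.Prime).ne_zero]
      | tmul x y =>
        rw [Algebra.TensorProduct.tmul_pow, Algebra.TensorProduct.lmul'_apply_tmul, mul_pow, ← hι y,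
          Algebra.algebraMap_eq_smul_one, TensorProduct.tmul_smul, TensorProduct.smul_tmul',
          Algebra.smul_def, Algebra.smul_def, mul_one, mul_comm]
      | add x y hx hy =>
        obtain ⟨r, hr⟩ := exists_add_pow_prime_eq (Fact.out : p.Prime) x y
        rw [hr, hpB, map_add, add_pow_char, TensorProduct.add_tmul, hx, hy]
        ring
    rw [key, show μ z = 0 from hz, zero_pow (Fact.out : p.Prime).ne_zero, TensorProduct.zero_tmul]
  have hswap : ∀ b : B, b ⊗ₜ[FrobAlg.BaseChange p A B] (1 : B) = (1 : B) ⊗ₜ[FrobAlg.BaseChange p A B] b := by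
    intro b
    have hz : algebraMap (B ⊗[FrobAlg.BaseChange p A B] B) B (b ⊗ₜ 1 - 1 ⊗ₜ b) = 0 := by
      simp [RingHom.algebraMap_toAlgebra, μ]
    obtain ⟨k, hk, hzk⟩ := Groth.Agent.EtAlgLib.exists_eq_mul_of_flat
      (fun x => ⟨x ⊗ₜ 1, by simp [RingHom.algebraMap_toAlgebra, μ]⟩) hz
    obtain ⟨n, hn⟩ := mem_nilradical.1 (hnil hk)
    refine sub_eq_zero.1 ?_
    have : ∀ m : ℕ, b ⊗ₜ[FrobAlg.BaseChange p A B] (1 : B) - 1 ⊗ₜ b = k ^ m * (b ⊗ₜ 1 - 1 ⊗ₜ b) := by
      intro m
      induction m with
      | zero => rw [pow_zero, one_mul]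
      | succ m ih => rw [pow_succ, mul_assoc, ← hzk]; exact ih
    rw [this n, hn, zero_mul]
  refine (Module.FaithfullyFlat.lTensor_surjective_iff_surjective (FrobAlg.BaseChange p A B) B
    (Algebra.linearMap (FrobAlg.BaseChange p A B) B)).1 fun z => ?_
  induction z using TensorProduct.induction_on with
  | zero => exact ⟨0, map_zero _⟩
  | add x y hx hy =>
    obtain ⟨x', rfl⟩ := hx
    obtain ⟨y', rfl⟩ := hy
    exact ⟨x' + y', map_add _ _ _⟩
  | tmul y b =>
    refine ⟨(y * b) ⊗ₜ 1, ?_⟩
    rw [LinearMap.lTensor_tmul, Algebra.linearMap_apply, map_one]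
    calc (y * b) ⊗ₜ[FrobAlg.BaseChange p A B] (1 : B) = (y ⊗ₜ 1) * (b ⊗ₜ 1) := by
          rw [Algebra.TensorProduct.tmul_mul_tmul, one_mul]
      _ = (y ⊗ₜ 1) * ((1 : B) ⊗ₜ b) := congrArg _ (hswap b)
      _ = y ⊗ₜ b := by rw [Algebra.TensorProduct.tmul_mul_tmul, mul_one, one_mul]

theorem etale_iff [Algebra.FinitePresentation A B] :
    Algebra.Etale A B ↔ Function.Bijective (FrobAlg.relFrob p A B) :=
  ⟨fun _ => bijective_of_etale p A B, fun h =>
    { formallyEtale := formallyEtale_of_bijective p A B h }⟩

end Groth.Agent.RelFrob17
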